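import Mathlib
import Cfsg.Agent.Lib.Helper95.BRA.Defs

/-!
# BRA (S4484) package [B4]: all conjugates of the sharp eigenprojection commute

Maximise `Re tr (P_{y₁} P_{y₂})` over the non-commuting pairs; B1 + B3 give a pair with a
strictly larger value (or the pair commutes), B2 closes the loop.
-/

set_option autoImplicit false

open scoped Matrix ComplexConjugate

namespace Cfsg.Agent.Lib.Helper87.BRA

open Cfsg Cfsg.Agent.Lib.Helper74.Jordan Cfsg.Agent.Lib.Helper95.BRA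

universe u

theorem pkgB4 (hB1 : PkgB1) (hB2 : PkgB2) (hB3 : PkgB3) : PkgB4.{u} := by
  intro G _ _ n U hUu x j₀ hS
  classical
  have hN0 : Nat.card G ≠ 0 := Nat.card_pos.ne'
  have hUu' : ∀ g, U g * (U g)ᴴ = 1 := fun g => mul_eq_one_comm.1 (hUu g)
  have hUH : ∀ g, (U g)ᴴ = U g⁻¹ := by
    intro g
    calc (U g)ᴴ = (U g)ᴴ * (U g * U g⁻¹) := by
          rw [← map_mul, mul_inv_cancel, map_one, Matrix.mul_one]
      _ = ((U g)ᴴ * U g) * U g⁻¹ := by rw [Matrix.mul_assoc]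
      _ = U g⁻¹ := by rw [hUu, Matrix.one_mul]
  have hpow : ∀ g, U g ^ Nat.card G = 1 := fun g => by
    rw [← map_pow, pow_card_eq_one', map_one]
  have hPh : (proj (U x) (Nat.card G) j₀)ᴴ = proj (U x) (Nat.card G) j₀ :=
    proj_herm hN0 (hpow x) (hUu x) j₀
  have hPi : proj (U x) (Nat.card G) j₀ * proj (U x) (Nat.card G) j₀
      = proj (U x) (Nat.card G) j₀ := proj_idem hN0 (hpow x) hS.1
  obtain ⟨Py, hPy⟩ : ∃ Py : G → Matrix (Fin n) (Fin n) ℂ,
      ∀ y, Py y = U y * proj (U x) (Nat.card G) j₀ * (U y)ᴴ := ⟨_, fun _ => rfl⟩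
  have hPyh : ∀ y, (Py y)ᴴ = Py y := by
    intro y
    rw [hPy]
    simp only [Matrix.conjTranspose_mul, Matrix.conjTranspose_conjTranspose, hPh,
      Matrix.mul_assoc]
  have hPyi : ∀ y, Py y * Py y = Py y := by
    intro y
    rw [hPy]
    calc U y * proj (U x) (Nat.card G) j₀ * (U y)ᴴ * (U y * proj (U x) (Nat.card G) j₀ * (U y)ᴴ)
        = U y * proj (U x) (Nat.card G) j₀ * ((U y)ᴴ * U y) * proj (U x) (Nat.card G) j₀
            * (U y)ᴴ := by simp only [Matrix.mul_assoc]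
      _ = U y * proj (U x) (Nat.card G) j₀ * (U y)ᴴ := by
          rw [hUu, Matrix.mul_one, Matrix.mul_assoc (U y), hPi]
  have hconj : ∀ g y, U g * Py y * (U g)ᴴ = Py (g * y) := by
    intro g y
    rw [hPy, hPy]
    simp only [map_mul, Matrix.conjTranspose_mul, Matrix.mul_assoc]
  suffices hmain : ∀ y₁ y₂ : G, Py y₁ * Py y₂ = Py y₂ * Py y₁ by
    intro y₁ y₂
    have := hmain y₁ y₂
    rwa [hPy, hPy] at this
  by_contra hcon
  push Not at hcon
  obtain ⟨y₁', y₂', hne⟩ := hcon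
  have : Nonempty {q : G × G // Py q.1 * Py q.2 ≠ Py q.2 * Py q.1} := ⟨⟨(y₁', y₂'), hne⟩⟩
  obtain ⟨⟨⟨y₁, y₂⟩, hy⟩, hmax⟩ := Finite.exists_max
    (fun q : {q : G × G // Py q.1 * Py q.2 ≠ Py q.2 * Py q.1} => (Py q.1.1 * Py q.1.2).trace.re)
  have hy' : Py y₁ * Py y₂ ≠ Py y₂ * Py y₁ := hy
  obtain ⟨A, hA⟩ : ∃ A : Matrix (Fin n) (Fin n) ℂ, A = U y₁ * U x * (U y₁)ᴴ := ⟨_, rfl⟩
  have hAeq : A = U (y₁ * x * y₁⁻¹) := by rw [hA, hUH, map_mul, map_mul]
  have hAu : Aᴴ * A = 1 := by rw [hAeq]; exact hUu _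
  have hApow : A ^ Nat.card G = 1 := by rw [hAeq]; exact hpow _
  have hprojA : ∀ j, proj A (Nat.card G) j = U y₁ * proj (U x) (Nat.card G) j * (U y₁)ᴴ :=
    fun j => by rw [hA]; exact proj_conj (hUu' y₁) (hUu y₁) (Nat.card G) j
  have hSA : Sharp A (Nat.card G) j₀ := by
    refine ⟨hS.1, ?_, ?_⟩
    · rw [hprojA]
      intro h0
      apply hS.2.1
      calc proj (U x) (Nat.card G) j₀
          = ((U y₁)ᴴ * U y₁) * proj (U x) (Nat.card G) j₀ * ((U y₁)ᴴ * U y₁) := by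
            rw [hUu, Matrix.one_mul, Matrix.mul_one]
        _ = (U y₁)ᴴ * (U y₁ * proj (U x) (Nat.card G) j₀ * (U y₁)ᴴ) * U y₁ := by
            simp only [Matrix.mul_assoc]
        _ = 0 := by rw [h0, Matrix.mul_zero, Matrix.zero_mul]
    · intro j hj hne'
      apply hS.2.2 j hj
      intro h0
      apply hne'
      rw [hprojA, h0, Matrix.mul_zero, Matrix.zero_mul]
  have hb1 := hB1 n A (Nat.card G) j₀ hN0 hApow hAu hSA
  have hPy1 : Py y₁ = proj A (Nat.card G) j₀ := by rw [hPy, hprojA]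
  obtain ⟨hle, heq⟩ := hB3 n A (Py y₁) (Py y₂) hAu (hPyh y₁) (hPyi y₁) (hPyh y₂) (hPyi y₂)
    (fun w => by rw [hPy1]; exact (hb1 w).1) (fun w => by rw [hPy1]; exact (hb1 w).2.1)
  have hAQ : A * Py y₂ * Aᴴ = Py (y₁ * x * y₁⁻¹ * y₂) := by rw [hAeq]; exact hconj _ _
  rw [hAQ] at hle heq
  rcases hle.lt_or_eq with hlt | he
  · by_cases hc : Py y₂ * Py (y₁ * x * y₁⁻¹ * y₂) = Py (y₁ * x * y₁⁻¹ * y₂) * Py y₂
    · have hcomm : A * Py y₂ = Py y₂ * A :=
        hB2 n A (Py y₂) hAu (hPyh y₂) (hPyi y₂) (fun w hw => (hb1 w).2.2 hw)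
          (by rw [hAQ]; exact hc)
      apply hy'
      have h1 : Commute (proj A (Nat.card G) j₀) (Py y₂) := by
        unfold proj
        refine Commute.smul_left ?_ _
        refine Commute.sum_left _ _ _ fun k _ => ?_
        exact (Commute.smul_left hcomm _).pow_left k
      rw [hPy1]
      exact h1
    · have h2 := hmax ⟨(y₂, y₁ * x * y₁⁻¹ * y₂), hc⟩
      simp only at h2
      linarith
  · apply hy'
    have h1 : Py y₁ * Py y₂ = Py y₂ := heq he
    have h2 : Py y₂ * Py y₁ = Py y₂ := by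
      have := congrArg Matrix.conjTranspose h1
      rwa [Matrix.conjTranspose_mul, hPyh, hPyh] at this
    rw [h1, h2]

end Cfsg.Agent.Lib.Helper87.BRA
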